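import Groth.Agent.DerSch.K997.TD
import Mathlib.AlgebraicGeometry.Morphisms.Smooth
import Mathlib.AlgebraicGeometry.Morphisms.FiniteType
import Mathlib.AlgebraicGeometry.Morphisms.ClosedImmersion

/-!
# Affine charts of a morphism of finite type through affine space, and tor dimension

`exists_factor`: the restriction `U ⟶ Y` to an affine open `U` with image in an affine open `V` is
`U ⟶ W ⟶ Y`, with `U ⟶ W` a closed immersion of finite tor dimension when `f` is, and `W ⟶ Y` smooth.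
-/

set_option autoImplicit false
universe u

open CategoryTheory CategoryTheory.Limits AlgebraicGeometry

namespace K997.Factor

open K997.TD

attribute [local instance] HasDerivedCategory.standard

variable {X Y : Scheme.{u}}

/-- `h : W ⟶ Y` is the affine space of dimension `n` over the affine open `V`. -/
structure IsAff (n : ℕ) {W : Scheme.{u}} (h : W ⟶ Y) (V : Y.Opens) : Prop where
  top : h ⁻¹ᵁ V = ⊤
  affine : IsAffineOpen (h ⁻¹ᵁ V)
  exists_equiv : ∃ e : MvPolynomial (Fin n) Γ(Y, V) ≃+* Γ(W, h ⁻¹ᵁ V),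
    ∀ r, e (MvPolynomial.C r) = (h.app V).hom r

/-- Stalkwise bound of the tor dimension of `g` by that of `g ≫ h`, for `h` an affine space over an affine open. -/
theorem td_stalk {n : ℕ} {U W : Scheme.{u}} (g : U ⟶ W) (h : W ⟶ Y) {V : Y.Opens} (hV : IsAffineOpen V)
    (hW : IsAff n h V) (u : U) (d : ℕ) (hd : TD ((g ≫ h).stalkMap u).hom d) :
    TD (g.stalkMap u).hom (d + n) := by
  obtain ⟨e, he⟩ := hW.exists_equiv
  have hw : g u ∈ h ⁻¹ᵁ V := by rw [hW.top]; trivial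
  have hy : h (g u) ∈ V := hw
  have h1 : ((g ≫ h).stalkMap u).hom = (g.stalkMap u).hom.comp (h.stalkMap (g u)).hom :=
    congrArg CommRingCat.Hom.hom (Scheme.Hom.stalkMap_comp g h u)
  rw [h1] at hd
  have hl1 := hV.isLocalization_stalk ⟨h (g u), hy⟩
  have hl2 := hW.affine.isLocalization_stalk ⟨g u, hw⟩
  refine td_of_poly (Y.presheaf.germ V (h (g u)) hy).hom (h.app V).hom
    (W.presheaf.germ (h ⁻¹ᵁ V) (g u) hw).hom (h.stalkMap (g u)).hom (g.stalkMap u).hom ?_ _ hl1 _ hl2 n e he d hd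
  rw [← CommRingCat.hom_comp, ← CommRingCat.hom_comp, Scheme.Hom.germ_stalkMap]

/-- The affine space over an affine open. -/
theorem isAff_spec (n : ℕ) {V : Y.Opens} (hV : IsAffineOpen V) :
    IsAff n (Spec.map (CommRingCat.ofHom (MvPolynomial.C : Γ(Y, V) →+* MvPolynomial (Fin n) Γ(Y, V))) ≫
      hV.fromSpec) V := by
  have htop : (Spec.map (CommRingCat.ofHom (MvPolynomial.C : Γ(Y, V) →+* MvPolynomial (Fin n) Γ(Y, V))) ≫
      hV.fromSpec) ⁻¹ᵁ V = ⊤ := by
    rw [Scheme.Hom.comp_preimage, hV.fromSpec_preimage_self, Scheme.Hom.preimage_top]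
  refine ⟨htop, ?_, ?_⟩
  · rw [htop]
    exact isAffineOpen_top _
  · let i := (Scheme.ΓSpecIso (CommRingCat.of (MvPolynomial (Fin n) Γ(Y, V)))).symm ≪≫
      (Spec (CommRingCat.of (MvPolynomial (Fin n) Γ(Y, V)))).presheaf.mapIso (eqToIso htop).op
    refine ⟨i.commRingCatIsoToRingEquiv, fun r => ?_⟩
    change (CommRingCat.ofHom (MvPolynomial.C : Γ(Y, V) →+* MvPolynomial (Fin n) Γ(Y, V)) ≫ i.hom) r = _
    refine ConcreteCategory.congr_hom ?_ r
    simp only [i, Iso.trans_hom, Iso.symm_hom, Functor.mapIso_hom, Iso.op_hom, eqToIso.hom]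
    rw [← Category.assoc, Scheme.ΓSpecIso_inv_naturality, Scheme.Hom.comp_app, hV.fromSpec_app_self,
      Category.assoc, Category.assoc]
    congr 1

theorem exists_factor [IsNoetherian X] (f : X ⟶ Y) [LocallyOfFiniteType f] (hf : DerSch.HasFiniteTorDim f)
    (U : X.Opens) (hU : IsAffineOpen U) (V : Y.Opens) (hV : IsAffineOpen V) (hUV : U ≤ f ⁻¹ᵁ V) :
    ∃ (W : Scheme.{u}) (g : (U : Scheme.{u}) ⟶ W) (h : W ⟶ Y),
      IsClosedImmersion g ∧ DerSch.HasFiniteTorDim g ∧ Smooth h ∧ g ≫ h = U.ι ≫ f := by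
  have hft : (f.appLE V U hUV).hom.FiniteType := f.finiteType_appLE hV hU hUV
  algebraize [(f.appLE V U hUV).hom]
  obtain ⟨n, ψ, hψ⟩ := Algebra.FiniteType.iff_quotient_mvPolynomial''.1
    (inferInstance : Algebra.FiniteType Γ(Y, V) Γ(X, U))
  let g : (U : Scheme.{u}) ⟶ Spec (CommRingCat.of (MvPolynomial (Fin n) Γ(Y, V))) :=
    hU.isoSpec.hom ≫ Spec.map (CommRingCat.ofHom ψ.toRingHom)
  let h : Spec (CommRingCat.of (MvPolynomial (Fin n) Γ(Y, V))) ⟶ Y :=
    Spec.map (CommRingCat.ofHom (MvPolynomial.C : Γ(Y, V) →+* MvPolynomial (Fin n) Γ(Y, V))) ≫ hV.fromSpec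
  have hgh : g ≫ h = U.ι ≫ f := by
    have h1 : CommRingCat.ofHom (MvPolynomial.C : Γ(Y, V) →+* MvPolynomial (Fin n) Γ(Y, V)) ≫
        CommRingCat.ofHom ψ.toRingHom = f.appLE V U hUV := by
      ext r
      exact ψ.commutes r
    change (hU.isoSpec.hom ≫ Spec.map (CommRingCat.ofHom ψ.toRingHom)) ≫ Spec.map (CommRingCat.ofHom
      (MvPolynomial.C : Γ(Y, V) →+* MvPolynomial (Fin n) Γ(Y, V))) ≫ hV.fromSpec = U.ι ≫ f
    rw [Category.assoc, ← Category.assoc (Spec.map _) (Spec.map _), ← Spec.map_comp, h1,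
      hV.SpecMap_appLE_fromSpec f hU hUV, ← Category.assoc, hU.isoSpec_hom_fromSpec]
  have hsm : Smooth (Spec.map (CommRingCat.ofHom
      (MvPolynomial.C : Γ(Y, V) →+* MvPolynomial (Fin n) Γ(Y, V)))) := by
    rw [HasRingHomProperty.Spec_iff (P := @Smooth)]
    have : Algebra.Smooth Γ(Y, V) (MvPolynomial (Fin n) Γ(Y, V)) := ⟨inferInstance, inferInstance⟩
    exact RingHom.smooth_algebraMap.2 this
  have hcl : IsClosedImmersion g := by
    have : IsClosedImmersion (Spec.map (CommRingCat.ofHom ψ.toRingHom)) :=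
      IsClosedImmersion.spec_of_surjective _ hψ
    infer_instance
  refine ⟨_, g, h, hcl, ?_, inferInstance, hgh⟩
  obtain ⟨a, b, hab⟩ := hf
  refine ⟨_, 0, fun u => hasTorAmplitudeAt_of_td g u ((-a).toNat + n) ?_⟩
  refine td_stalk g h hV (isAff_spec n hV) u _ ?_
  have key : ∀ F : (U : Scheme.{u}) ⟶ Y, F = U.ι ≫ f → TD (F.stalkMap u).hom (-a).toNat := by
    rintro _ rfl
    have h1 : ((U.ι ≫ f).stalkMap u).hom = (U.ι.stalkMap u).hom.comp (f.stalkMap (U.ι u)).hom :=
      congrArg CommRingCat.Hom.hom (Scheme.Hom.stalkMap_comp U.ι f u)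
    rw [h1]
    refine TD.comp_bijective (td_of_hasTorAmplitudeAt f (U.ι u) a b (hab _)) _ ?_
    exact ConcreteCategory.bijective_of_isIso (U.ι.stalkMap u)
  exact key _ hgh

end K997.Factor
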