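import Groth.Agent.DerSch.K997.TorAmp
import Groth.Agent.CycB.PushStalk
import Groth.Prelude.Def_DerSch

/-!
# Finite tor dimension of a morphism, stalkwise

* `TD φ n`: the ring map `φ` has tor dimension `≤ n`.
* `td_of_poly`: tor dimension over (a localization of) a polynomial ring.
* `td_of_hasTorAmplitudeAt`, `hasTorAmplitudeAt_of_td`: the relation with `DerSch.HasTorAmplitudeAt`.
-/

set_option autoImplicit false
universe u

open CategoryTheory CategoryTheory.Limits AlgebraicGeometry

namespace K997.TD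

open DRing Groth.Agent.Flat2H.TorDim Groth.Agent.Flat2H.TorDimPoly K997.TorAmp

attribute [local instance] HasDerivedCategory.standard

/-- The ring map `φ` has tor dimension `≤ n`. -/
def TD {A B : Type u} [CommRing A] [CommRing B] (φ : A →+* B) (n : ℕ) : Prop :=
  letI := φ.toAlgebra
  HasTorDimLE A n B

theorem TD.comp_bijective {A B C : Type u} [CommRing A] [CommRing B] [CommRing C] {φ : A →+* B} {n : ℕ}
    (h : TD φ n) (ψ : B →+* C) (hψ : Function.Bijective ψ) : TD (ψ.comp φ) n := by
  letI : Algebra A B := φ.toAlgebra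
  letI : Algebra A C := (ψ.comp φ).toAlgebra
  have h' : HasTorDimLE A n B := h
  let e : B →ₗ[A] C :=
    { toFun := ψ
      map_add' := map_add ψ
      map_smul' := fun a b => by
        change ψ (φ a * b) = ψ (φ a) * ψ b
        rw [map_mul] }
  exact HasTorDimLE.of_linearEquiv (LinearEquiv.ofBijective e hψ) h'

/-- Tor dimension over a localization of a polynomial ring. -/
theorem td_of_poly {R P A C B : Type u} [CommRing R] [CommRing P] [CommRing A] [CommRing C] [CommRing B]
    (α : R →+* A) (c : R →+* P) (β : P →+* C) (s : A →+* C) (γ : C →+* B)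
    (hs : s.comp α = β.comp c) (S₁ : Submonoid R)
    (hα : @IsLocalization R _ S₁ A _ α.toAlgebra) (S₂ : Submonoid P)
    (hβ : @IsLocalization P _ S₂ C _ β.toAlgebra) (n : ℕ) (e : MvPolynomial (Fin n) R ≃+* P)
    (he : ∀ r, e (MvPolynomial.C r) = c r) (d : ℕ) (h : TD (γ.comp s) d) : TD γ (d + n) := by
  letI a1 : Algebra R A := α.toAlgebra
  letI a2 : Algebra A B := (γ.comp s).toAlgebra
  letI a3 : Algebra R B := ((γ.comp s).comp α).toAlgebra
  have t1 : IsScalarTower R A B := IsScalarTower.of_algebraMap_eq fun r => rfl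
  have h1 : HasTorDimLE R d B := (hasTorDimLE_localization_iff S₁ A d).2 h
  letI a4 : Algebra (MvPolynomial (Fin n) R) B := (γ.comp (β.comp e.toRingHom)).toAlgebra
  have t2 : IsScalarTower R (MvPolynomial (Fin n) R) B := IsScalarTower.of_algebraMap_eq fun r => by
    change γ (s (α r)) = γ (β (e (MvPolynomial.C r)))
    rw [he]
    exact congrArg γ (RingHom.congr_fun hs r)
  have h2 : HasTorDimLE (MvPolynomial (Fin n) R) (d + n) B := HasTorDimLE.mvPolynomial n h1
  letI a5 : Algebra P B := (γ.comp β).toAlgebra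
  letI a6 : Algebra (MvPolynomial (Fin n) R) P := e.toRingHom.toAlgebra
  have t3 : IsScalarTower (MvPolynomial (Fin n) R) P B := IsScalarTower.of_algebraMap_eq fun r => rfl
  have h3 : HasTorDimLE P (d + n) B :=
    (hasTorDimLE_iff_of_bijective (A := MvPolynomial (Fin n) R) (A' := P) e.bijective (d + n)).1 h2
  letI a7 : Algebra C B := γ.toAlgebra
  letI a8 : Algebra P C := β.toAlgebra
  have t4 : IsScalarTower P C B := IsScalarTower.of_algebraMap_eq fun r => rfl
  exact (hasTorDimLE_localization_iff S₂ C (d + n)).1 h3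

variable {X Y : Scheme.{u}}

/-- The stalk complex of the structure sheaf. -/
noncomputable def stalkUnitCxIso (f : X ⟶ Y) (x : X) :
    (DerSch.stalkCxOver f x).obj (DerSch.unitCx X) ≅
      sgl ((DerSch.stalkOver f x).obj (Coh.structureModule X)) :=
  (HomologicalComplex.singleMapHomologicalComplex (DerSch.stalkOver f x) (ComplexShape.up ℤ) 0).app
    (Coh.structureModule X)

/-- The stalk of the structure sheaf over the local ring of the base. -/
noncomputable def stalkUnitEquiv (f : X ⟶ Y) (x : X) :
    letI := (f.stalkMap x).hom.toAlgebra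
    X.presheaf.stalk x ≃ₗ[Y.presheaf.stalk (f.base x)] (DerSch.stalkOver f x).obj (Coh.structureModule X) :=
  letI := (f.stalkMap x).hom.toAlgebra
  { Groth.Agent.CycB.PushStalk.unitStalk X x with
    map_smul' := fun r m => by
      exact (Groth.Agent.CycB.PushStalk.unitStalk X x).map_smul ((f.stalkMap x).hom r) m }

theorem td_of_hasTorAmplitudeAt (f : X ⟶ Y) (x : X) (a b : ℤ)
    (h : DerSch.HasTorAmplitudeAt f a b (DerSch.unitCx X) x) : TD (f.stalkMap x).hom (-a).toNat := by
  have h1 : HasTorAmplitudeIn _ a b (toD (sgl ((DerSch.stalkOver f x).obj (Coh.structureModule X)))) :=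
    hasTorAmplitudeIn_of_iso (DerivedCategory.Q.mapIso (stalkUnitCxIso f x)) h
  letI := (f.stalkMap x).hom.toAlgebra
  exact HasTorDimLE.of_linearEquiv (stalkUnitEquiv f x).symm (hasTorDimLE_of_hasTorAmplitudeIn _ a b h1)

theorem hasTorAmplitudeAt_of_td (f : X ⟶ Y) (x : X) (n : ℕ) (h : TD (f.stalkMap x).hom n) :
    DerSch.HasTorAmplitudeAt f (-(n : ℤ)) 0 (DerSch.unitCx X) x := by
  letI := (f.stalkMap x).hom.toAlgebra
  have h1 : HasTorDimLE _ n ((DerSch.stalkOver f x).obj (Coh.structureModule X)) :=
    HasTorDimLE.of_linearEquiv (stalkUnitEquiv f x) h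
  exact hasTorAmplitudeIn_of_iso (DerivedCategory.Q.mapIso (stalkUnitCxIso f x)).symm
    (hasTorAmplitudeIn_of_hasTorDimLE _ n h1)

end K997.TD
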