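import Groth.Agent.Flat2C.TorAmpRestr
import Groth.Agent.Flat2H.TorDimPoly

/-!
# Tor amplitude of a module in degree `0` and tor dimension

* `hasTorAmplitudeIn_of_hasTorDimLE`: tor dimension `≤ n` gives tor amplitude in `[-n, 0]`.
* `hasTorDimLE_of_hasTorAmplitudeIn`: tor amplitude in `[a, b]` gives tor dimension `≤ (-a).toNat`.
-/

set_option autoImplicit false
universe u

open CategoryTheory CategoryTheory.Limits

namespace K997.TorAmp

open DRing Groth.Agent.Flat2C.TorAmpCone Groth.Agent.Flat2C.TorAmpRestr Groth.Agent.Flat2H.TorDim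
  Groth.Agent.Flat2H.TorDimPoly

attribute [local instance] HasDerivedCategory.standard

variable {R : Type u} [CommRing R]

theorem exact_of_exactAt (K : Cx R) (i j k : ℤ) (hij : i + 1 = j) (hjk : j + 1 = k) (h : K.ExactAt j) :
    Function.Exact (K.d i j).hom (K.d j k).hom := by
  rw [HomologicalComplex.exactAt_iff' _ i j k (by simp; omega) (by simp; omega),
    ShortComplex.ShortExact.moduleCat_exact_iff_function_exact] at h
  exact h

/-- Dimension shifting in a complex of flat modules which is exact in negative degrees. -/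
theorem hasTorDimLE_cok_iff (P : Cx R) (hPf : TermwiseFlat P) (hex : ∀ i : ℤ, i < 0 → P.ExactAt i) (n : ℕ) :
    ∀ (h i h' i' : ℤ), i ≤ 0 → h + 1 = i → h' + 1 = i' → i' = i - n →
      (HasTorDimLE R n (Cok P h i) ↔ Module.Flat R (Cok P h' i')) := by
  induction n with
  | zero =>
    intro h i h' i' hi hh hh' hi'
    obtain rfl : i' = i := by simpa using hi'
    obtain rfl : h' = h := by omega
    exact hasTorDimLE_zero_iff
  | succ n ih =>
    intro h i h' i' hi hh hh' hi'
    rw [← ih (h - 1) h h' i' (by omega) (by omega) hh' (by rw [hi']; push_cast; omega)]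
    have hE := exact_of_exactAt P (h - 1) h i (by omega) hh (hex h (by omega))
    have := hPf i
    let ι : Cok P (h - 1) h →ₗ[R] P.X i := Submodule.liftQ _ (P.d h i).hom (by
      rintro _ ⟨x, rfl⟩
      simp [d_d_apply])
    have hι : ∀ x, ι (Submodule.Quotient.mk x) = (P.d h i).hom x := fun x => rfl
    refine hasTorDimLE_succ_iff ι (LinearMap.range (P.d h i).hom).mkQ ?_ (Submodule.mkQ_surjective _) ?_ n
    · rw [← LinearMap.ker_eq_bot, LinearMap.ker_eq_bot']
      intro x hx
      obtain ⟨y, rfl⟩ := Submodule.Quotient.mk_surjective _ x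
      rw [hι] at hx
      exact (Submodule.Quotient.mk_eq_zero _).2 ((hE y).1 hx)
    · intro y
      rw [Submodule.mkQ_apply, Submodule.Quotient.mk_eq_zero]
      constructor
      · rintro ⟨x, rfl⟩
        exact ⟨Submodule.Quotient.mk x, rfl⟩
      · rintro ⟨x, rfl⟩
        obtain ⟨x, rfl⟩ := Submodule.Quotient.mk_surjective _ x
        exact ⟨x, rfl⟩

/-- Truncation of a bounded above complex of flat modules with a flat cokernel. -/
theorem hasTorAmplitudeIn_of_flat_cok (P : Cx R) (a b h : ℤ) (hha : h + 1 = a)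
    (hP0 : ∀ i, b < i → IsZero (P.X i)) (hex : ∀ i, i < a → P.ExactAt i)
    (hPf : ∀ i, Module.Flat R (P.X i)) (hcok : Module.Flat R (Cok P h a)) :
    HasTorAmplitudeIn R a b (toD P) := by
  have hGE : P.IsGE a := by
    rw [CochainComplex.isGE_iff]
    exact hex
  have hcok' : Module.Flat R (P.opcycles a) := by
    obtain ⟨e1⟩ := nonempty_opcycles_equiv P hha
    exact Module.Flat.of_linearEquiv e1
  refine ⟨P.truncGE a, ?_, ?_, ⟨(asIso (DerivedCategory.Q.map (P.πTruncGE a))).symm⟩⟩
  · rintro i (hi | hi)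
    · exact CochainComplex.isZero_of_isStrictlyGE _ a i hi
    · rcases lt_trichotomy i a with h | h | h
      · exact CochainComplex.isZero_of_isStrictlyGE _ a i h
      · subst h
        refine IsZero.of_iso ?_ (P.truncGEXIsoOpcycles i)
        exact IsZero.of_epi (P.pOpcycles i) (hP0 i hi)
      · exact IsZero.of_iso (hP0 i hi) (P.truncGEXIso a i h)
  · intro i
    rcases lt_trichotomy i a with h | h | h
    · have := ModuleCat.subsingleton_of_isZero
        (CochainComplex.isZero_of_isStrictlyGE (P.truncGE a) a i h)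
      infer_instance
    · subst h
      exact Module.Flat.of_linearEquiv (P.truncGEXIsoOpcycles i).toLinearEquiv
    · have := hPf i
      exact Module.Flat.of_linearEquiv (P.truncGEXIso a i h).toLinearEquiv

theorem hasTorAmplitudeIn_of_iso {a b : ℤ} {K L : Dual.D R} (e : K ≅ L)
    (h : HasTorAmplitudeIn R a b K) : HasTorAmplitudeIn R a b L := by
  obtain ⟨E, h1, h2, ⟨e'⟩⟩ := h
  exact ⟨E, h1, h2, ⟨e' ≪≫ e⟩⟩

theorem hasTorAmplitudeIn_mono {a b a' b' : ℤ} (ha : a' ≤ a) (hb : b ≤ b') {K : Dual.D R}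
    (h : HasTorAmplitudeIn R a b K) : HasTorAmplitudeIn R a' b' K := by
  obtain ⟨E, h1, h2, h3⟩ := h
  exact ⟨E, fun i hi => h1 i (by omega), h2, h3⟩

/-- The complex with `M` in degree `0`. -/
noncomputable abbrev sgl (M : ModuleCat.{u} R) : Cx R :=
  (HomologicalComplex.single (ModuleCat.{u} R) (ComplexShape.up ℤ) 0).obj M

/-- A resolution of `M` by projective modules, as a cochain complex. -/
theorem exists_res (M : ModuleCat.{u} R) :
    ∃ (P : Cx R) (f : P ⟶ sgl M), (∀ i : ℤ, 0 < i → IsZero (P.X i)) ∧ TermwiseFlat P ∧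
      QuasiIso f ∧ (∀ i : ℤ, i < 0 → P.ExactAt i) ∧ Nonempty (Cok P (-1) 0 ≃ₗ[R] M) := by
  obtain ⟨P, f, h0, hp, hf⟩ := exists_projective_resolution (sgl M) 0
    (fun i hi => HomologicalComplex.ExactAt.of_isZero
      (HomologicalComplex.isZero_single_obj_X _ _ _ _ (by omega)))
  have hex : ∀ i : ℤ, i < 0 → P.ExactAt i := by
    intro i hi
    rw [← quasiIsoAt_iff_exactAt' f i (HomologicalComplex.ExactAt.of_isZero
      (HomologicalComplex.isZero_single_obj_X _ _ _ _ (by omega)))]
    infer_instance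
  refine ⟨P, f, h0, fun i => flat_of_projective (hp i), hf, hex, ?_⟩
  obtain ⟨e1⟩ := nonempty_opcycles_equiv P (h := -1) (i := 0) (by norm_num)
  have e2 : P.homology 0 ≅ P.opcycles 0 := by
    have : P.d 0 ((ComplexShape.up ℤ).next 0) = 0 := by
      apply (h0 _ ?_).eq_of_tgt
      simp
    have : IsIso (P.homologyι 0) := by
      have h1 : P.d 0 1 = 0 := (h0 1 (by norm_num)).eq_of_tgt _ _
      exact P.isIso_homologyι 0 1 (by simp) h1
    exact asIso (P.homologyι 0)
  have e3 : P.homology 0 ≅ (sgl M).homology 0 := asIso (HomologicalComplex.homologyMap f 0)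
  have e4 : (sgl M).homology 0 ≅ M :=
    (HomologicalComplex.homologyFunctorSingleIso (ModuleCat.{u} R) (ComplexShape.up ℤ) 0).app M
  exact ⟨e1.symm.trans (e2.symm ≪≫ e3 ≪≫ e4).toLinearEquiv⟩

theorem hasTorAmplitudeIn_of_hasTorDimLE (M : ModuleCat.{u} R) (n : ℕ) (h : HasTorDimLE R n M) :
    HasTorAmplitudeIn R (-(n : ℤ)) 0 (toD (sgl M)) := by
  obtain ⟨P, f, h0, hP, hf, hex, ⟨e⟩⟩ := exists_res M
  have h1 : HasTorDimLE R n (Cok P (-1) 0) := HasTorDimLE.of_linearEquiv e.symm h
  rw [hasTorDimLE_cok_iff P hP hex n (-1) 0 (-(n : ℤ) - 1) (-n) le_rfl (by norm_num) (by omega)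
    (by omega)] at h1
  refine hasTorAmplitudeIn_of_iso (asIso (DerivedCategory.Q.map f)) ?_
  exact hasTorAmplitudeIn_of_flat_cok P (-n) 0 (-(n : ℤ) - 1) (by omega) h0
    (fun i hi => hex i (by omega)) hP h1

theorem hasTorDimLE_of_hasTorAmplitudeIn (M : ModuleCat.{u} R) (a b : ℤ)
    (h : HasTorAmplitudeIn R a b (toD (sgl M))) : HasTorDimLE R (-a).toNat M := by
  obtain ⟨P, f, h0, hP, hf, hex, ⟨e⟩⟩ := exists_res M
  refine HasTorDimLE.of_linearEquiv e ?_
  rw [hasTorDimLE_cok_iff P hP hex (-a).toNat (-1) 0 (-((-a).toNat : ℤ) - 1) (-((-a).toNat : ℤ)) le_rfl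
    (by norm_num) (by omega) (by omega)]
  obtain ⟨E, hE0, hEf, ⟨eE⟩⟩ := h
  have hiso : toD P ≅ toD E := (asIso (DerivedCategory.Q.map f)) ≪≫ eE.symm
  rw [flat_cok_iff_of_iso (max b 0) P E (fun i hi => h0 i (by omega)) (fun i hi => hE0 i (Or.inr (by omega)))
    hP hEf hiso (by omega)]
  set i : ℤ := -((-a).toNat : ℤ) with hi
  have h1 : i ≤ 0 ∧ (i ≤ a) := by omega
  have := hEf i
  have h0' : IsZero (E.X (i - 1)) := hE0 (i - 1) (Or.inl (by omega))
  have hs : Subsingleton (E.X (i - 1)) := ModuleCat.subsingleton_of_isZero h0'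
  have hr : LinearMap.range (E.d (i - 1) i).hom = ⊥ := by
    rw [LinearMap.range_eq_bot]
    ext x
    rw [Subsingleton.elim x 0, map_zero, map_zero]
  exact Module.Flat.of_linearEquiv (Submodule.quotEquivOfEqBot _ hr)

end K997.TorAmp
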